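import Cfsg.Agent.OddCyclic.RedEFin
import Cfsg.Agent.OddCyclic.EO.Main
import Cfsg.Agent.OddCyclic.EN.Final
import Cfsg.Agent.OddCyclic.EN.OneA
import Cfsg.Agent.OddCyclic.EN.SevEnd
import Cfsg.Agent.OddCyclic.EN.FitFiveEnd
import Cfsg.Agent.OddCyclic.EN.S7B
import Cfsg.Agent.OddCyclic.EN.NatTwo.Main

/-!
# The ambient input of (E1)

`in_of`: both halves of (B-b), unconditional.
-/

set_option autoImplicit false

namespace Cfsg.Agent.OddCyclic.Main.Two

open Cfsg Cfsg.Agent.OddCyclic.EN.Shape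

universe u

/-- the four end theorems of (B-b) and 3.4 -/
theorem ends : EN.Final.Ends.{u} where
  fit := EN.FitFive.fit
  aOne := fun h1 h2 _ h3 h4 h5 h6 => EN.OneA.aOne h1 h2 h3 h4 h5 h6
  bOne := fun h1 h2 _ h3 h4 h5 h6 => EN.S7B.bOne h1 h2 h3 h4 h5 h6
  aTwo := fun h1 h2 _ h3 h4 => EN.NatTwo.aTwo h1 h2 h3 h4
  bTwo := fun h1 h2 _ h3 h4 => EN.SevEnd.bTwo h1 h2 h3 h4

/-- the ambient input of (E1): both halves of (B-b) -/
theorem in_of {G : Type u} [Group G] [Finite G] [IsSimpleGroup G] (hs : CompStart.SecZero G) : RedEFin.In G where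
  solv := fun _ _ _ h2 => EO.Main.false_of_odd hs h2
  nonsolv := fun _ _ _ h2 h3 => EN.Final.nonsolv ends h2 h3

end Cfsg.Agent.OddCyclic.Main.Two
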