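import Cfsg.Agent.OddCyclic.CompSzMain
import Cfsg.Agent.OddCyclic.RuNot
import Cfsg.Agent.RuRed.Final768
import Cfsg.Agent.RuC.Fin
import Cfsg.Agent.Ru8.Final8
import Cfsg.Agent.RuB.IsoRu

/-!
# S0342: the inputs on the Rudvalis group
-/

set_option autoImplicit false

namespace Cfsg.Agent.OddCyclic.Main

universe u

theorem ru768 : CompSzMain.S1768Stmt.{u} := by
  intro G _ _ hO A hA F _ _ hF hAX hR
  exact Cfsg.Agent.RuRed.Final768.result_of (fun K _ _ C hr => Cfsg.Agent.RuB.IsoRu.isoRu C hr)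
    (fun G K _ _ _ _ C hr M φ h =>
      Cfsg.Agent.RuC.eq_top C hr (fun K _ _ C hr => Cfsg.Agent.RuB.IsoRu.isoRu C hr) h)
    (fun K _ _ C => Cfsg.Agent.Ru8.false_of_core8 C) hO A hA hF hAX hR

theorem ruNot : CompSzMain.RuStmt.{u} := fun _ _ _ h => RuNot.not_oddCyc_ru h

end Cfsg.Agent.OddCyclic.Main
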