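import Cfsg.Agent.OddCyclic.CompBasic
import Cfsg.Agent.LieClassical.HermBasic
import Cfsg.Agent.LieClassical.SUBasic
import Cfsg.Agent.S0279
import Cfsg.Agent.S0280
import Cfsg.Agent.SporadicA.M11Facts2

/-!
# Known simple groups whose odd Sylow subgroups are not all cyclic

* `psl_two_prime` : `PSL(2,F)`, `|F|` odd, all odd Sylow subgroups cyclic: `|F|` is a prime;
* `psl_three`, `psu_three_odd`, `psu_three_even`, `alt_seven`, `m11` : not all odd Sylow subgroups are cyclic.
-/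

set_option autoImplicit false
set_option linter.unusedSectionVars false

namespace Cfsg.Agent.OddCyclic.Main.Rows

open Subgroup Cfsg Matrix
open Cfsg.Agent.OddCyclic.T1Defs (OddCyc)

theorem oddCyc_congr {X Y : Type*} [Group X] [Group Y] [Finite X] [Finite Y] (e : X ≃* Y) (h : OddCyc X) :
    OddCyc Y := CompBasic.oddCyc_of_injective h e.symm.toMonoidHom e.symm.injective

/-- Commuting elements of order `r` in the central quotient. -/
theorem core' {X : Type*} [Group X] [Finite X] (h : OddCyc (X ⧸ center X)) {r : ℕ} (hr : r.Prime) (hr2 : r ≠ 2)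
    {x y : X} (hxy : x * y * (y * x)⁻¹ ∈ center X) (hx : x ∉ center X) (hy : y ∉ center X) (hxr : x ^ r ∈ center X)
    (hyr : y ^ r ∈ center X) : ∃ (n : ℕ), ∃ c ∈ center X, y = x ^ n * c := by
  have := Fact.mk hr
  let π := QuotientGroup.mk' (center X)
  have key : ∀ z : X, z ∉ center X → z ^ r ∈ center X → orderOf (π z) = r := by
    intro z hz hzr
    refine orderOf_eq_prime ?_ ?_
    · rw [← map_pow]; exact (QuotientGroup.eq_one_iff _).2 hzr
    · intro h1
      exact hz ((QuotientGroup.eq_one_iff _).1 h1)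
  have h1 := CompBasic.zpowers_eq_of_commute h hr hr2 (key x hx hxr) (key y hy hyr)
    (show π x * π y = π y * π x by
      have h2 : π (x * y * (y * x)⁻¹) = 1 := (QuotientGroup.eq_one_iff _).2 hxy
      rw [map_mul, map_inv, mul_inv_eq_one, map_mul, map_mul] at h2
      exact h2)
  have h2 : π y ∈ zpowers (π x) := by rw [h1]; exact mem_zpowers _
  obtain ⟨n, hn⟩ := (mem_powers_iff_mem_zpowers.2 h2)
  refine ⟨n, (x ^ n)⁻¹ * y, ?_, by group⟩
  rw [← QuotientGroup.eq_one_iff]
  show π ((x ^ n)⁻¹ * y) = 1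
  rw [map_mul, map_inv, map_pow]
  have hn' : π x ^ n = π y := hn
  rw [hn', inv_mul_cancel]

theorem core {X : Type*} [Group X] [Finite X] (h : OddCyc (X ⧸ center X)) {r : ℕ} (hr : r.Prime) (hr2 : r ≠ 2)
    {x y : X} (hxy : x * y = y * x) (hx : x ∉ center X) (hy : y ∉ center X) (hxr : x ^ r ∈ center X)
    (hyr : y ^ r ∈ center X) : ∃ (n : ℕ), ∃ c ∈ center X, y = x ^ n * c :=
  core' h hr hr2 (by rw [hxy, mul_inv_cancel]; exact one_mem _) hx hy hxr hyr

/-- a finite field all of whose elements are natural numbers has prime order -/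
theorem prime_card {F : Type*} [Field F] [Fintype F] (h : ∀ t : F, ∃ n : ℕ, t = n) : (Fintype.card F).Prime := by
  obtain ⟨p, hp⟩ := CharP.exists F
  obtain ⟨k, hk1, hk2⟩ := FiniteField.card F p
  have := Fact.mk hk1
  have h1 : Function.Surjective (ZMod.castHom (dvd_refl p) F) := by
    intro t
    obtain ⟨n, rfl⟩ := h t
    exact ⟨n, by simp⟩
  have h2 : Fintype.card F ≤ p := by
    have := Fintype.card_le_of_surjective _ h1
    rwa [ZMod.card] at this
  have h3 : Fintype.card F = p := by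
    refine le_antisymm h2 ?_
    rw [hk2]
    exact Nat.le_self_pow k.ne_zero p
  rw [h3]; exact hk1

section psl2

variable {F : Type*} [Field F] [Fintype F]

/-- upper unitriangular matrices -/
def u2 (t : F) : Matrix.SpecialLinearGroup (Fin 2) F := ⟨!![1, t; 0, 1], by simp [det_fin_two]⟩

theorem u2_mul (s t : F) : u2 s * u2 t = u2 (s + t) := by
  apply Subtype.ext
  show (!![1, s; 0, 1] : Matrix (Fin 2) (Fin 2) F) * !![1, t; 0, 1] = !![1, s + t; 0, 1]
  simp [add_comm]

theorem u2_zero : u2 (0 : F) = 1 := by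
  ext i j
  fin_cases i <;> fin_cases j <;> simp [u2]

theorem u2_pow (t : F) (n : ℕ) : u2 t ^ n = u2 (n * t) := by
  induction n with
  | zero => rw [pow_zero, Nat.cast_zero, zero_mul, u2_zero]
  | succ n ih =>
    rw [pow_succ, ih, u2_mul]
    congr 1
    push_cast
    ring

theorem psl_two_prime (hF : Odd (Fintype.card F)) (h : OddCyc (Matrix.ProjectiveSpecialLinearGroup (Fin 2) F)) :
    (Fintype.card F).Prime := by
  obtain ⟨p, hp⟩ := CharP.exists F
  obtain ⟨k, hk1, hk2⟩ := FiniteField.card F p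
  have hp2 : p ≠ 2 := by
    rintro rfl
    rw [hk2] at hF
    exact (Nat.not_odd_iff_even.2 ((Nat.even_pow.2 ⟨even_two, k.ne_zero⟩))) hF
  have hc : ∀ t : F, u2 t ^ p = 1 := by
    intro t
    rw [u2_pow, CharP.cast_eq_zero, zero_mul]
    ext i j
    fin_cases i <;> fin_cases j <;> simp [u2]
  have hnc : ∀ t : F, t ≠ 0 → u2 t ∉ center (Matrix.SpecialLinearGroup (Fin 2) F) := by
    intro t ht hcon
    obtain ⟨r, -, hr⟩ := Matrix.SpecialLinearGroup.mem_center_iff.1 hcon
    have := congrFun (congrFun hr 0) 1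
    simp [u2] at this
    exact ht this.symm
  refine prime_card fun t => ?_
  by_cases ht : t = 0
  · exact ⟨0, by simp [ht]⟩
  · obtain ⟨n, c, hcc, hn⟩ := core h hk1 hp2 (x := u2 1) (y := u2 t)
      (by rw [u2_mul, u2_mul, add_comm]) (hnc 1 one_ne_zero) (hnc t ht)
      (by rw [hc]; exact one_mem _) (by rw [hc]; exact one_mem _)
    obtain ⟨r, -, hr⟩ := Matrix.SpecialLinearGroup.mem_center_iff.1 hcc
    rw [u2_pow, mul_one] at hn
    have h0 := congrArg (fun A : Matrix.SpecialLinearGroup (Fin 2) F => (A : Matrix (Fin 2) (Fin 2) F)) hn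
    simp only [Matrix.SpecialLinearGroup.coe_mul] at h0
    rw [← hr] at h0
    have h00 := congrFun (congrFun h0 0) 0
    have h01 := congrFun (congrFun h0 0) 1
    simp [u2, Matrix.mul_apply, Fin.sum_univ_two] at h00 h01
    exact ⟨n, by rw [h01, ← h00, mul_one]⟩

end psl2

section psl3

variable {F : Type*} [Field F] [Fintype F]

def u3 (s t : F) : Matrix.SpecialLinearGroup (Fin 3) F := ⟨!![1, 0, s; 0, 1, t; 0, 0, 1], by simp [det_fin_three]⟩

theorem u3_mul (s t s' t' : F) : u3 s t * u3 s' t' = u3 (s + s') (t + t') := by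
  apply Subtype.ext
  show (!![1, 0, s; 0, 1, t; 0, 0, 1] : Matrix (Fin 3) (Fin 3) F) * !![1, 0, s'; 0, 1, t'; 0, 0, 1] =
    !![1, 0, s + s'; 0, 1, t + t'; 0, 0, 1]
  ext i j
  fin_cases i <;> fin_cases j <;> simp [Matrix.mul_apply, Fin.sum_univ_three, add_comm]

theorem u3_zero : u3 (0 : F) 0 = 1 := by
  ext i j
  fin_cases i <;> fin_cases j <;> simp [u3]

theorem u3_pow (s t : F) (n : ℕ) : u3 s t ^ n = u3 (n * s) (n * t) := by
  induction n with
  | zero => rw [pow_zero, Nat.cast_zero, zero_mul, zero_mul, u3_zero]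
  | succ n ih =>
    rw [pow_succ, ih, u3_mul]
    congr 1 <;> · push_cast; ring

theorem psl_three (hF : Odd (Fintype.card F)) (h : OddCyc (Matrix.ProjectiveSpecialLinearGroup (Fin 3) F)) : False := by
  obtain ⟨p, hp⟩ := CharP.exists F
  obtain ⟨k, hk1, hk2⟩ := FiniteField.card F p
  have hp2 : p ≠ 2 := by
    rintro rfl
    rw [hk2] at hF
    exact (Nat.not_odd_iff_even.2 ((Nat.even_pow.2 ⟨even_two, k.ne_zero⟩))) hF
  have hc : ∀ s t : F, u3 s t ^ p = 1 := by
    intro s t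
    rw [u3_pow, CharP.cast_eq_zero, zero_mul, zero_mul]
    ext i j
    fin_cases i <;> fin_cases j <;> simp [u3]
  have hnc : ∀ s t : F, (s ≠ 0 ∨ t ≠ 0) → u3 s t ∉ center (Matrix.SpecialLinearGroup (Fin 3) F) := by
    intro s t ht hcon
    obtain ⟨r, -, hr⟩ := Matrix.SpecialLinearGroup.mem_center_iff.1 hcon
    have h02 := congrFun (congrFun hr 0) 2
    have h12 := congrFun (congrFun hr 1) 2
    simp [u3] at h02 h12
    rcases ht with ht | ht
    · exact ht h02.symm
    · exact ht h12.symm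
  obtain ⟨n, c, hcc, hn⟩ := core h hk1 hp2 (x := u3 1 0) (y := u3 0 1)
    (by rw [u3_mul, u3_mul]; simp) (hnc _ _ (Or.inl one_ne_zero)) (hnc _ _ (Or.inr one_ne_zero))
    (by rw [hc]; exact one_mem _) (by rw [hc]; exact one_mem _)
  obtain ⟨r, -, hr⟩ := Matrix.SpecialLinearGroup.mem_center_iff.1 hcc
  rw [u3_pow] at hn
  have h0 := congrArg (fun A : Matrix.SpecialLinearGroup (Fin 3) F => (A : Matrix (Fin 3) (Fin 3) F)) hn
  simp only [Matrix.SpecialLinearGroup.coe_mul] at h0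
  rw [← hr] at h0
  have h12 := congrFun (congrFun h0 1) 2
  simp [u3, Matrix.mul_apply, Fin.sum_univ_three] at h12

/-- `PSL(3,4)` -/
theorem psl_three_four (hF : Fintype.card F = 4) (h : OddCyc (Matrix.ProjectiveSpecialLinearGroup (Fin 3) F)) :
    False := by
  have hcu : Nat.card Fˣ = 3 := by
    rw [Nat.card_units, Nat.card_eq_fintype_card, hF]
  have : Fact (Nat.Prime 3) := ⟨Nat.prime_three⟩
  obtain ⟨u, hu⟩ := exists_prime_orderOf_dvd_card' (G := Fˣ) 3 (by rw [hcu])
  set a : F := (u : F) with ha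
  have ha0 : a ≠ 0 := u.ne_zero
  have ha3 : a ^ 3 = 1 := by
    have := pow_orderOf_eq_one u
    rw [hu] at this
    rw [ha, ← Units.val_pow_eq_pow_val, this, Units.val_one]
  have ha1 : a ≠ 1 := by
    intro h1
    have h2 : u = 1 := Units.ext (by rw [← ha, h1, Units.val_one])
    rw [h2, orderOf_one] at hu
    omega
  have ha3' : a * a ^ 2 = 1 := by rw [← pow_succ']; exact ha3
  let x : Matrix.SpecialLinearGroup (Fin 3) F := ⟨!![1, 0, 0; 0, a, 0; 0, 0, a ^ 2], by
    simp [det_fin_three, ha3']⟩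
  let y : Matrix.SpecialLinearGroup (Fin 3) F := ⟨!![0, 1, 0; 0, 0, 1; 1, 0, 0], by simp [det_fin_three]⟩
  let c : Matrix.SpecialLinearGroup (Fin 3) F := ⟨!![a, 0, 0; 0, a, 0; 0, 0, a], by
    simp [det_fin_three]; rw [← ha3]; ring⟩
  have hc : c ∈ center (Matrix.SpecialLinearGroup (Fin 3) F) := by
    rw [Matrix.SpecialLinearGroup.mem_center_iff]
    refine ⟨a, by simpa using ha3, ?_⟩
    ext i j
    fin_cases i <;> fin_cases j <;> simp [c]
  have hyx : y * x = c * (x * y) := by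
    apply Subtype.ext
    show (!![0, 1, 0; 0, 0, 1; 1, 0, 0] : Matrix (Fin 3) (Fin 3) F) * !![1, 0, 0; 0, a, 0; 0, 0, a ^ 2] =
      !![a, 0, 0; 0, a, 0; 0, 0, a] * (!![1, 0, 0; 0, a, 0; 0, 0, a ^ 2] * !![0, 1, 0; 0, 0, 1; 1, 0, 0])
    ext i j
    fin_cases i <;> fin_cases j <;> simp [Matrix.mul_apply, Fin.sum_univ_three, pow_two]
    rw [← pow_two]; exact ha3'.symm
  have hx3 : x ^ 3 = 1 := by
    apply Subtype.ext
    show (!![1, 0, 0; 0, a, 0; 0, 0, a ^ 2] : Matrix (Fin 3) (Fin 3) F) ^ 3 = 1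
    have h6 : (a ^ 2) ^ 3 = 1 := by rw [← pow_mul, mul_comm, pow_mul, ha3, one_pow]
    have h1 : (!![1, 0, 0; 0, a, 0; 0, 0, a ^ 2] : Matrix (Fin 3) (Fin 3) F) = Matrix.diagonal ![1, a, a ^ 2] := by
      ext i j
      fin_cases i <;> fin_cases j <;> simp
    rw [h1, Matrix.diagonal_pow, ← Matrix.diagonal_one]
    congr 1
    funext i
    fin_cases i
    · simp
    · simpa using ha3
    · simpa using h6
  have hy3 : y ^ 3 = 1 := by
    apply Subtype.ext
    show (!![0, 1, 0; 0, 0, 1; 1, 0, 0] : Matrix (Fin 3) (Fin 3) F) ^ 3 = 1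
    rw [pow_succ, pow_two]
    ext i j
    fin_cases i <;> fin_cases j <;> simp [Matrix.mul_apply, Fin.sum_univ_three]
  have hxc : x ∉ center (Matrix.SpecialLinearGroup (Fin 3) F) := by
    intro hcon
    obtain ⟨r, -, hr⟩ := Matrix.SpecialLinearGroup.mem_center_iff.1 hcon
    have h0 := congrFun (congrFun hr 0) 0
    have h1 := congrFun (congrFun hr 1) 1
    simp [x] at h0 h1
    exact ha1 (h1.symm.trans h0)
  have hyc : y ∉ center (Matrix.SpecialLinearGroup (Fin 3) F) := by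
    intro hcon
    obtain ⟨r, -, hr⟩ := Matrix.SpecialLinearGroup.mem_center_iff.1 hcon
    have h0 := congrFun (congrFun hr 0) 1
    simp [y] at h0
  obtain ⟨n, d, hd, hn⟩ := core' h Nat.prime_three (by norm_num) (x := x) (y := y)
    (by
      rw [hyx, _root_.mul_inv_rev, ← mul_assoc, mul_inv_cancel, one_mul]
      exact inv_mem hc) hxc hyc (by rw [hx3]; exact one_mem _) (by rw [hy3]; exact one_mem _)
  obtain ⟨r, -, hr⟩ := Matrix.SpecialLinearGroup.mem_center_iff.1 hd
  have h0 := congrArg (fun A : Matrix.SpecialLinearGroup (Fin 3) F => (A : Matrix (Fin 3) (Fin 3) F)) hn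
  simp only [Matrix.SpecialLinearGroup.coe_mul, Matrix.SpecialLinearGroup.coe_pow] at h0
  rw [← hr] at h0
  have h1 : (x : Matrix (Fin 3) (Fin 3) F) = Matrix.diagonal ![1, a, a ^ 2] := by
    ext i j
    fin_cases i <;> fin_cases j <;> simp [x]
  rw [h1, Matrix.diagonal_pow] at h0
  have h01 := congrFun (congrFun h0 0) 1
  simp [y, Matrix.mul_apply, Fin.sum_univ_three] at h01

end psl3

section psu

variable {F : Type*} [Field F] [Fintype F] {q : ℕ}

open Cfsg.Agent.LieClassical.SUBasic Cfsg.Agent.LieClassical.HermBasic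

/-- a nilpotent `3 × 3` matrix has cube zero -/
theorem cube_eq_zero {N : Matrix (Fin 3) (Fin 3) F} (hN : IsNilpotent N) : N ^ 3 = 0 := by
  have h := Matrix.isNilpotent_charpoly_sub_pow_of_isNilpotent hN
  rw [isNilpotent_iff_eq_zero, sub_eq_zero, Fintype.card_fin] at h
  have h3 := Matrix.aeval_self_charpoly N
  rw [h] at h3
  simpa using h3

/-- `p`-elements of `SL(3,F)`, `p` the characteristic, `p ≥ 3`, have order dividing `p` -/
theorem pow_char {p : ℕ} [hp : Fact p.Prime] [CharP F p] (h3 : 3 ≤ p) {g : Matrix.SpecialLinearGroup (Fin 3) F}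
    {k : ℕ} (hg : g ^ p ^ k = 1) : g ^ p = 1 := by
  let M : Matrix (Fin 3) (Fin 3) F := g
  have hM : M ^ p ^ k = 1 := by
    have := congrArg (fun A : Matrix.SpecialLinearGroup (Fin 3) F => (A : Matrix (Fin 3) (Fin 3) F)) hg
    simpa using this
  have h1 : IsNilpotent (M - 1) := by
    refine ⟨p ^ k, ?_⟩
    rw [sub_pow_char_pow_of_commute _ _ (Commute.one_right M), hM, one_pow, sub_self]
  have h2 : (M - 1) ^ p = 0 := by
    obtain ⟨m, rfl⟩ := Nat.exists_eq_add_of_le h3
    rw [pow_add, cube_eq_zero h1, zero_mul]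
  rw [sub_pow_char_of_commute _ (Commute.one_right M), one_pow, sub_eq_zero] at h2
  apply Subtype.ext
  rw [Matrix.SpecialLinearGroup.coe_pow]
  exact h2

theorem psu_three_odd (hF : Fintype.card F = q ^ 2) (hq : Odd q) (h : OddCyc (Cfsg.PSU 3 F q)) : False := by
  obtain ⟨p, k, hp, hc, hk, hk0⟩ := exists_prime_pow hF
  have := Fact.mk hp
  have hp2 : p ≠ 2 := by
    rintro rfl
    rw [hk] at hq
    exact (Nat.not_odd_iff_even.2 ((Nat.even_pow.2 ⟨even_two, hk0.ne'⟩))) hq
  have h3 : 3 ≤ p := by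
    have := hp.two_le
    omega
  obtain ⟨P⟩ : Nonempty (Sylow p (Cfsg.SU 3 F q)) := inferInstance
  -- the order
  have hcard := Cfsg.Agent.S0278.result hF 3 (by norm_num)
  have hd : q ^ 3 ∣ Nat.card (Cfsg.SU 3 F q) := by
    have h1 : q ^ 3 ∣ (q + 1) * Nat.card (Cfsg.SU 3 F q) := by
      rw [hcard]
      exact Dvd.intro _ rfl
    exact (Nat.Coprime.dvd_of_dvd_mul_left (Nat.Coprime.pow_left 3 (by simp)) h1)
  have hp3 : p ^ 2 ∣ Nat.card (P : Subgroup (Cfsg.SU 3 F q)) := by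
    apply P.pow_dvd_card_of_pow_dvd_card
    refine Dvd.dvd.trans ?_ hd
    rw [hk, ← pow_mul]
    exact pow_dvd_pow p (by omega)
  -- cyclic
  have hinj : Function.Injective ((QuotientGroup.mk' (center (Cfsg.SU 3 F q))).comp
      (P : Subgroup (Cfsg.SU 3 F q)).subtype) := by
    rw [injective_iff_map_eq_one]
    intro x hx
    have h1 : (x : Cfsg.SU 3 F q) ∈ center (Cfsg.SU 3 F q) := (QuotientGroup.eq_one_iff _).1 hx
    have h2 : orderOf (x : Cfsg.SU 3 F q) ∣ Nat.gcd 3 (q + 1) := by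
      rw [← Cfsg.Agent.S0279.result hF 3 le_rfl]
      have := orderOf_dvd_natCard (⟨(x : Cfsg.SU 3 F q), h1⟩ : center (Cfsg.SU 3 F q))
      rwa [Subgroup.orderOf_mk] at this
    obtain ⟨m, hm⟩ := (IsPGroup.iff_orderOf.1 P.isPGroup') x
    have h4 : orderOf (x : Cfsg.SU 3 F q) = p ^ m := by rw [← hm, Subgroup.orderOf_coe]
    have h5 : m = 0 := by
      by_contra hm0
      have h6 : p ∣ q + 1 := by
        rw [h4] at h2
        exact ((dvd_pow_self p hm0).trans h2).trans (Nat.gcd_dvd_right _ _)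
      have h7 : p ∣ q := by rw [hk]; exact dvd_pow_self p hk0.ne'
      have h8 : p ∣ 1 := (Nat.dvd_add_right h7).1 h6
      exact hp.one_lt.ne' (Nat.dvd_one.1 h8)
    rw [h5, pow_zero, orderOf_eq_one_iff] at hm
    exact hm
  have hcyc : IsCyclic (P : Subgroup (Cfsg.SU 3 F q)) := by
    have h1 : IsPGroup p ((QuotientGroup.mk' (center (Cfsg.SU 3 F q))).comp
      (P : Subgroup (Cfsg.SU 3 F q)).subtype).range := by
      rintro ⟨_, x, rfl⟩
      obtain ⟨m, hm⟩ := P.isPGroup' x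
      exact ⟨m, Subtype.ext (by simp only [SubgroupClass.coe_pow]; rw [← map_pow, hm, map_one]; rfl)⟩
    have h2 := CompBasic.isCyclic_of_isPGroup h hp hp2 h1
    exact isCyclic_of_injective (MonoidHom.rangeRestrict _)
      (MonoidHom.rangeRestrict_injective_iff.2 hinj)
  obtain ⟨g, hg⟩ := hcyc.exists_generator
  have h5 : orderOf g = Nat.card (P : Subgroup (Cfsg.SU 3 F q)) := orderOf_eq_card_of_forall_mem_zpowers hg
  obtain ⟨m, hm⟩ := P.isPGroup' g
  have h6 : g ^ p = 1 := by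
    have h7 : (((g : Cfsg.SU 3 F q) : Matrix.SpecialLinearGroup (Fin 3) F)) ^ p ^ m = 1 := by
      have := congrArg (fun x : P => ((x : Cfsg.SU 3 F q) : Matrix.SpecialLinearGroup (Fin 3) F)) hm
      simpa using this
    have h8 := pow_char h3 h7
    apply Subtype.ext
    apply Subtype.ext
    simpa using h8
  have h9 := orderOf_dvd_of_pow_eq_one h6
  rw [h5] at h9
  have h10 := hp3.trans h9
  have h11 := Nat.le_of_dvd hp.pos h10
  nlinarith [hp.two_le]

/-- entries of diagonal elements -/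
theorem entry {x y : Fin 3 → F} {hd : ∏ i, x i = 1} {hn : ∀ i, x i ^ (q + 1) = 1} {hd' : ∏ i, y i = 1}
    {hn' : ∀ i, y i ^ (q + 1) = 1} (hF : Fintype.card F = q ^ 2) {n : ℕ} {c : Cfsg.SU 3 F q}
    (hc : c ∈ center (Cfsg.SU 3 F q)) (h : suDiag q y hd' hn' = suDiag q x hd hn ^ n * c) :
    ∃ a : F, ∀ i, y i = x i ^ n * a := by
  obtain ⟨a, h1, h2, rfl⟩ := (mem_center_SU_iff hF le_rfl c).1 hc
  refine ⟨a, fun i => ?_⟩
  have h3 := congrArg (fun X : Cfsg.SU 3 F q => ((X : Matrix.SpecialLinearGroup (Fin 3) F) :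
    Matrix (Fin 3) (Fin 3) F)) h
  simp only [Subgroup.coe_mul, SubgroupClass.coe_pow, Matrix.SpecialLinearGroup.coe_mul,
    Matrix.SpecialLinearGroup.coe_pow, coe_suDiag, coe_suScalar, Matrix.diagonal_pow,
    Matrix.diagonal_mul_diagonal] at h3
  have h4 := congrFun (congrFun h3 i) i
  simpa using h4

theorem pow_mem_center {x : Fin 3 → F} {hd : ∏ i, x i = 1} {hn : ∀ i, x i ^ (q + 1) = 1}
    (hF : Fintype.card F = q ^ 2) {n : ℕ} {a : F} (h : ∀ i, x i ^ n = a) :
    suDiag q x hd hn ^ n ∈ center (Cfsg.SU 3 F q) := by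
  rw [mem_center_SU_iff hF le_rfl]
  have h1 : a ^ 3 = 1 := by
    have h2 : ∏ i : Fin 3, x i ^ n = 1 := by rw [Finset.prod_pow, hd, one_pow]
    rw [Finset.prod_congr rfl (fun i _ => h i), Finset.prod_const, Finset.card_univ, Fintype.card_fin] at h2
    exact h2
  have h2 : a ^ (q + 1) = 1 := by
    rw [← h 0, ← pow_mul, mul_comm, pow_mul, hn, one_pow]
  refine ⟨a, h1, h2, ?_⟩
  apply Subtype.ext
  apply Subtype.ext
  simp only [SubgroupClass.coe_pow, Matrix.SpecialLinearGroup.coe_pow, coe_suDiag, coe_suScalar,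
    Matrix.diagonal_pow]
  congr 1
  funext i
  exact h i

theorem notMem_center {x : Fin 3 → F} {hd : ∏ i, x i = 1} {hn : ∀ i, x i ^ (q + 1) = 1}
    (hF : Fintype.card F = q ^ 2) {i j : Fin 3} (h : x i ≠ x j) :
    suDiag q x hd hn ∉ center (Cfsg.SU 3 F q) := by
  intro hc
  obtain ⟨a, h1, h2, h3⟩ := (mem_center_SU_iff hF le_rfl _).1 hc
  have h4 := congrArg (fun X : Cfsg.SU 3 F q => ((X : Matrix.SpecialLinearGroup (Fin 3) F) :
    Matrix (Fin 3) (Fin 3) F)) h3
  simp only [coe_suDiag, coe_suScalar] at h4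
  have h5 := congrFun (congrFun h4 i) i
  have h6 := congrFun (congrFun h4 j) j
  simp at h5 h6
  exact h (h5.trans h6.symm)

theorem diag_comm {x y : Fin 3 → F} {hd : ∏ i, x i = 1} {hn : ∀ i, x i ^ (q + 1) = 1} {hd' : ∏ i, y i = 1}
    {hn' : ∀ i, y i ^ (q + 1) = 1} : suDiag q x hd hn * suDiag q y hd' hn' =
      suDiag q y hd' hn' * suDiag q x hd hn := by
  apply Subtype.ext
  apply Subtype.ext
  simp only [Subgroup.coe_mul, Matrix.SpecialLinearGroup.coe_mul, coe_suDiag, Matrix.diagonal_mul_diagonal]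
  congr 1
  funext i
  exact mul_comm _ _

theorem psu_three_even (hF : Fintype.card F = q ^ 2) (hq : Even q) (h4 : 4 ≤ q) (h : OddCyc (Cfsg.PSU 3 F q)) :
    False := by
  have hcu : q + 1 ∣ Nat.card Fˣ := by
    rw [card_units_eq hF]; exact Dvd.intro _ rfl
  have hodd : ¬ 2 ∣ q + 1 := by
    obtain ⟨m, hm⟩ := hq
    omega
  by_cases hr : ∃ r : ℕ, r.Prime ∧ r ∣ q + 1 ∧ r ≠ 3
  · obtain ⟨r, hr, hrq, hr3⟩ := hr
    have := Fact.mk hr
    have hr2 : r ≠ 2 := by rintro rfl; exact hodd hrq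
    obtain ⟨u, hu⟩ := exists_prime_orderOf_dvd_card' (G := Fˣ) r (hrq.trans hcu)
    set a : F := (u : F) with ha
    have ha0 : a ≠ 0 := u.ne_zero
    have har : a ^ r = 1 := by
      have := pow_orderOf_eq_one u
      rw [hu] at this
      rw [ha, ← Units.val_pow_eq_pow_val, this, Units.val_one]
    have hak : ∀ k : ℕ, a ^ k = 1 → r ∣ k := by
      intro k hk
      rw [← hu]
      apply orderOf_dvd_of_pow_eq_one
      ext
      rw [Units.val_pow_eq_pow_val, ← ha, hk, Units.val_one]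
    have haq : a ^ (q + 1) = 1 := by
      obtain ⟨m, hm⟩ := hrq
      rw [hm, pow_mul, har, one_pow]
    have h1 : ∀ i, (![a, a⁻¹, 1] : Fin 3 → F) i ^ (q + 1) = 1 := by
      intro i
      fin_cases i <;> simp [haq]
    have h2 : ∀ i, (![1, a, a⁻¹] : Fin 3 → F) i ^ (q + 1) = 1 := by
      intro i
      fin_cases i <;> simp [haq]
    have h3 : ∏ i, (![a, a⁻¹, 1] : Fin 3 → F) i = 1 := by
      simp [Fin.prod_univ_three, ha0]
    have h5 : ∏ i, (![1, a, a⁻¹] : Fin 3 → F) i = 1 := by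
      simp [Fin.prod_univ_three, ha0]
    have ha1 : a ≠ 1 := by
      intro ha1
      have := hak 1 (by rw [pow_one, ha1])
      exact hr.one_lt.ne' (Nat.dvd_one.1 this)
    obtain ⟨n, c, hc, hn⟩ := core h hr hr2 (x := suDiag q ![a, a⁻¹, 1] h3 h1) (y := suDiag q ![1, a, a⁻¹] h5 h2)
      diag_comm (notMem_center hF (i := 0) (j := 2) (by simpa using ha1))
      (notMem_center hF (i := 0) (j := 1) (by simpa using ha1.symm))
      (pow_mem_center hF (a := 1) (fun i => by fin_cases i <;> simp [har]))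
      (pow_mem_center hF (a := 1) (fun i => by fin_cases i <;> simp [har]))
    obtain ⟨b, hb⟩ := entry hF hc hn
    have e0 := hb 0
    have e1 := hb 1
    have e2 := hb 2
    simp at e0 e1 e2
    -- `1 = aⁿ b`, `a = a⁻ⁿ b`, `a⁻¹ = b`
    rw [← e2] at e0 e1
    have hn0 : a ^ n ≠ 0 := pow_ne_zero n ha0
    have e3 : a ^ n = a := by
      field_simp at e0
      exact e0.symm
    rw [e3] at e1
    have e4 : a ^ 3 = 1 := by
      field_simp at e1
      rw [pow_succ] at e1 ⊢
      exact e1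
    exact hr3 ((Nat.prime_dvd_prime_iff_eq hr Nat.prime_three).1 (hak 3 e4))
  · push Not at hr
    have h9 : 9 ∣ q + 1 := by
      have h1 : q + 1 = 3 ^ (q + 1).primeFactorsList.length := by
        apply Nat.eq_prime_pow_of_unique_prime_dvd (by omega)
        intro d hd hdq
        exact hr d hd hdq
      have h2 : 2 ≤ (q + 1).primeFactorsList.length := by
        by_contra hlt
        have h3 : (3 : ℕ) ^ (q + 1).primeFactorsList.length ≤ 3 ^ 1 := Nat.pow_le_pow_right (by norm_num) (by omega)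
        omega
      rw [h1]
      exact pow_dvd_pow 3 h2 (m := 2)
    obtain ⟨g, hg⟩ := IsCyclic.exists_generator (α := Fˣ)
    have hgo : orderOf g = Nat.card Fˣ := orderOf_eq_card_of_forall_mem_zpowers hg
    obtain ⟨m, hm⟩ := h9.trans hcu
    have hm0 : m ≠ 0 := by
      rintro rfl
      rw [mul_zero] at hm
      exact (Nat.card_pos (α := Fˣ)).ne' hm
    have hu : orderOf (g ^ m) = 9 := by
      rw [orderOf_pow' g hm0, hgo, hm, Nat.gcd_eq_right (Dvd.intro_left 9 rfl)]
      exact Nat.mul_div_cancel _ (Nat.pos_of_ne_zero hm0)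
    set a : F := ((g ^ m : Fˣ) : F) with ha
    have ha0 : a ≠ 0 := (g ^ m).ne_zero
    have ha9 : a ^ 9 = 1 := by
      have := pow_orderOf_eq_one (g ^ m)
      rw [hu] at this
      rw [ha, ← Units.val_pow_eq_pow_val, this, Units.val_one]
    have ha3 : a ^ 3 ≠ 1 := by
      intro h3
      have : orderOf (g ^ m) ∣ 3 := by
        apply orderOf_dvd_of_pow_eq_one
        ext
        rw [Units.val_pow_eq_pow_val, ← ha, h3, Units.val_one]
      rw [hu] at this
      norm_num at this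
    have haq : a ^ (q + 1) = 1 := by
      obtain ⟨m, hm⟩ := h9
      rw [hm, pow_mul, ha9, one_pow]
    have haq3 : (a ^ 3) ^ (q + 1) = 1 := by rw [← pow_mul, mul_comm, pow_mul, haq, one_pow]
    have haq2 : ((a ^ 2)⁻¹) ^ (q + 1) = 1 := by rw [inv_pow, ← pow_mul, mul_comm, pow_mul, haq, one_pow, inv_one]
    have h1 : ∀ i, (![a ^ 3, (a ^ 3)⁻¹, 1] : Fin 3 → F) i ^ (q + 1) = 1 := by
      intro i
      fin_cases i
      · exact haq3
      · show ((a ^ 3)⁻¹) ^ (q + 1) = 1
        rw [inv_pow, haq3, inv_one]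
      · exact one_pow _
    have h2 : ∀ i, (![a, a, (a ^ 2)⁻¹] : Fin 3 → F) i ^ (q + 1) = 1 := by
      intro i
      fin_cases i
      · exact haq
      · exact haq
      · exact haq2
    have h3 : ∏ i, (![a ^ 3, (a ^ 3)⁻¹, 1] : Fin 3 → F) i = 1 := by
      simp [Fin.prod_univ_three, ha0]
    have h5 : ∏ i, (![a, a, (a ^ 2)⁻¹] : Fin 3 → F) i = 1 := by
      rw [Fin.prod_univ_three]
      show a * a * (a ^ 2)⁻¹ = 1
      field_simp
    have c33 : (a ^ 3) ^ 3 = 1 := by rw [← pow_mul]; exact ha9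
    obtain ⟨n, c, hc, hn⟩ := core h Nat.prime_three (by norm_num)
      (x := suDiag q ![a ^ 3, (a ^ 3)⁻¹, 1] h3 h1) (y := suDiag q ![a, a, (a ^ 2)⁻¹] h5 h2)
      diag_comm (notMem_center hF (i := 0) (j := 2) ha3)
      (notMem_center hF (i := 0) (j := 2) (by
        show a ≠ (a ^ 2)⁻¹
        intro he
        apply ha3
        rw [pow_succ' a 2]
        nth_rw 1 [he]
        exact inv_mul_cancel₀ (pow_ne_zero 2 ha0)))
      (pow_mem_center hF (a := 1) (fun i => by
        fin_cases i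
        · exact c33
        · show ((a ^ 3)⁻¹) ^ 3 = 1
          rw [inv_pow, c33, inv_one]
        · exact one_pow 3))
      (pow_mem_center hF (a := a ^ 3) (fun i => by
        fin_cases i
        · rfl
        · rfl
        · show ((a ^ 2)⁻¹) ^ 3 = a ^ 3
          rw [inv_pow, inv_eq_iff_eq_inv, ← pow_mul]
          refine eq_inv_of_mul_eq_one_left ?_
          rw [← pow_add]
          exact ha9))
    obtain ⟨b, hb⟩ := entry hF hc hn
    have e0 : a = (a ^ 3) ^ n * b := hb 0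
    have e1 : a = ((a ^ 3)⁻¹) ^ n * b := hb 1
    have e2 : (a ^ 2)⁻¹ = 1 ^ n * b := hb 2
    rw [one_pow, one_mul] at e2
    have hb0 : b ≠ 0 := by rw [← e2]; exact inv_ne_zero (pow_ne_zero 2 ha0)
    have e3 : (a ^ 3) ^ n = ((a ^ 3)⁻¹) ^ n := mul_right_cancel₀ hb0 (e0.symm.trans e1)
    have hw0 : (a ^ 3) ^ n ≠ 0 := pow_ne_zero n (pow_ne_zero 3 ha0)
    have e4 : ((a ^ 3) ^ n) ^ 2 = 1 := by
      rw [pow_two]
      nth_rw 2 [e3]
      rw [inv_pow, mul_inv_cancel₀ hw0]
    have e5 : ((a ^ 3) ^ n) ^ 3 = 1 := by rw [← pow_mul, mul_comm, pow_mul, c33, one_pow]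
    have e6 : (a ^ 3) ^ n = 1 := by
      rw [pow_succ, e4, one_mul] at e5
      exact e5
    rw [e6, one_mul] at e0
    apply ha3
    rw [pow_succ' a 2]
    nth_rw 1 [e0]
    rw [← e2]
    exact inv_mul_cancel₀ (pow_ne_zero 2 ha0)

end psu

/-- `A₇` -/
theorem alt_seven (h : OddCyc (alternatingGroup (Fin 7))) : False := by
  have hs : ∀ x : Equiv.Perm (Fin 7), x ^ 3 = 1 → x ∈ alternatingGroup (Fin 7) := by
    intro x hx
    rw [Equiv.Perm.mem_alternatingGroup]
    have h1 : (Equiv.Perm.sign x) ^ 3 = 1 := by rw [← map_pow, hx, map_one]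
    rcases Int.units_eq_one_or (Equiv.Perm.sign x) with h2 | h2
    · exact h2
    · rw [h2] at h1
      exact absurd h1 (by decide)
  let a : Equiv.Perm (Fin 7) := Equiv.swap 0 1 * Equiv.swap 1 2
  let b : Equiv.Perm (Fin 7) := Equiv.swap 3 4 * Equiv.swap 4 5
  have ha : a ^ 3 = 1 := by decide
  have hb : b ^ 3 = 1 := by decide
  have hab : a * b = b * a := by decide
  have ha1 : a ≠ 1 := by decide
  have hb1 : b ≠ 1 := by decide
  have h1 : orderOf (⟨a, hs a ha⟩ : alternatingGroup (Fin 7)) = 3 := by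
    rw [Subgroup.orderOf_mk]; exact orderOf_eq_prime ha ha1
  have h2 : orderOf (⟨b, hs b hb⟩ : alternatingGroup (Fin 7)) = 3 := by
    rw [Subgroup.orderOf_mk]; exact orderOf_eq_prime hb hb1
  have h3 := CompBasic.zpowers_eq_of_commute h Nat.prime_three (by norm_num) h1 h2 (Subtype.ext hab)
  have h4 : (⟨b, hs b hb⟩ : alternatingGroup (Fin 7)) ∈ zpowers (⟨a, hs a ha⟩ : alternatingGroup (Fin 7)) := by
    rw [h3]; exact mem_zpowers _
  obtain ⟨n, hn⟩ := mem_powers_iff_mem_zpowers.2 h4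
  have h5 : a ^ n = b := congrArg Subtype.val hn
  have h6 : ∀ m : ℕ, (a ^ m) 3 = 3 := by
    intro m
    induction m with
    | zero => rfl
    | succ m ih =>
      rw [pow_succ, Equiv.Perm.mul_apply]
      have : a 3 = 3 := by decide
      rw [this, ih]
  have h7 := h6 n
  rw [h5] at h7
  exact absurd h7 (by decide)

/-- `M₁₁` -/
theorem m11 {G : Type*} [Group G] [Finite G] (hG : IsM11 G) (h : OddCyc G) : False := by
  have : Fact (Nat.Prime 3) := ⟨Nat.prime_three⟩
  obtain ⟨P⟩ : Nonempty (Sylow 3 G) := inferInstance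
  have h9 := SporadicA.M11Three.card_P hG P
  obtain ⟨g, hg⟩ := (h 3 P Nat.prime_three (by norm_num)).exists_generator
  have h1 : orderOf g = 9 := by
    rw [← h9]; exact orderOf_eq_card_of_forall_mem_zpowers hg
  have h2 := SporadicA.M11Facts2.pow_three_eq_one hG P g.2
  have h3 : g ^ 3 = 1 := Subtype.ext h2
  have h4 := orderOf_dvd_of_pow_eq_one h3
  rw [h1] at h4
  norm_num at h4

end Cfsg.Agent.OddCyclic.Main.Rows
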